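import Mathlib
import Cfsg.Agent.Lib.Helper19.SPU.Defs
import Cfsg.Agent.Lib.Helper40.Fitting

/-!
# SPU (S2316) package [LAGDEC]: Lagrangian normal form of `X ∈ 𝒜(J)` with `X² + X` nilpotent
-/

set_option autoImplicit false

namespace Cfsg.Agent.Lib.Helper24.SPU

open Matrix Cfsg.Agent.Lib.Helper19.SPU

universe u

section
variable {F : Type u} [Field F]

/-- Sylvester: `S Z = Z T`, `S` nilpotent, `T` invertible ⟹ `Z = 0`. -/
theorem sylv_nil_unit {a b : Type} [Fintype a] [Fintype b] [DecidableEq a] [DecidableEq b]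
    (S : Matrix a a F) (T : Matrix b b F) (Z : Matrix a b F) (hS : IsNilpotent S) (hT : IsUnit T)
    (h : S * Z = Z * T) : Z = 0 := by
  have e : ∀ i : ℕ, S ^ i * Z = Z * T ^ i := by
    intro i
    induction i with
    | zero => simp
    | succ i ih => rw [pow_succ', Matrix.mul_assoc, ih, ← Matrix.mul_assoc, h, Matrix.mul_assoc,
        ← pow_succ']
  obtain ⟨i, hi⟩ := hS
  have h1 := e i
  rw [hi, Matrix.zero_mul] at h1
  obtain ⟨u, hu⟩ := hT.pow i
  have : Z * (u : Matrix b b F) * ((u⁻¹ : (Matrix b b F)ˣ) : Matrix b b F) = 0 := by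
    rw [hu, ← h1, Matrix.zero_mul]
  rwa [Matrix.mul_assoc, Units.mul_inv, Matrix.mul_one] at this

/-- Sylvester: `S Z = Z T`, `S` invertible, `T` nilpotent ⟹ `Z = 0`. -/
theorem sylv_unit_nil {a b : Type} [Fintype a] [Fintype b] [DecidableEq a] [DecidableEq b]
    (S : Matrix a a F) (T : Matrix b b F) (Z : Matrix a b F) (hS : IsUnit S) (hT : IsNilpotent T)
    (h : S * Z = Z * T) : Z = 0 := by
  have e : ∀ i : ℕ, S ^ i * Z = Z * T ^ i := by
    intro i
    induction i with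
    | zero => simp
    | succ i ih => rw [pow_succ', Matrix.mul_assoc, ih, ← Matrix.mul_assoc, h, Matrix.mul_assoc,
        ← pow_succ']
  obtain ⟨i, hi⟩ := hT
  have h1 := e i
  rw [hi, Matrix.mul_zero] at h1
  obtain ⟨u, hu⟩ := hS.pow i
  have : ((u⁻¹ : (Matrix a a F)ˣ) : Matrix a a F) * ((u : Matrix a a F) * Z) = 0 := by
    rw [hu, h1, Matrix.mul_zero]
  rwa [← Matrix.mul_assoc, Units.inv_mul, Matrix.one_mul] at this

theorem isNilpotent_transpose' {a : Type} [Fintype a] [DecidableEq a] {N : Matrix a a F}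
    (hN : IsNilpotent N) : IsNilpotent Nᵀ := by
  obtain ⟨i, hi⟩ := hN
  exact ⟨i, by rw [← Matrix.transpose_pow, hi, Matrix.transpose_zero]⟩

theorem isUnit_transpose' {a : Type} [Fintype a] [DecidableEq a] {A : Matrix a a F}
    (hA : IsUnit A) : IsUnit Aᵀ := by
  rw [Matrix.isUnit_iff_isUnit_det] at hA ⊢
  rwa [Matrix.det_transpose]

theorem isUnit_of_mul_eq_one' {a : Type} [Fintype a] [DecidableEq a] {A B : Matrix a a F}
    (h : A * B = 1) : IsUnit A :=
  ⟨⟨A, B, h, mul_eq_one_comm.mp h⟩, rfl⟩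

/-- The standard form `J` is symplectic in the sense of the SPU interface. -/
theorem isSymp_J (k : ℕ) : IsSymp (Matrix.J (Fin k) F) := by
  refine ⟨Matrix.J_transpose (Fin k) F, ?_, ?_⟩
  · intro i
    rcases i with i | i <;> simp [Matrix.J]
  · have h : Matrix.J (Fin k) F * (-Matrix.J (Fin k) F) = 1 := by
      rw [Matrix.mul_neg, Matrix.J_squared]; simp
    exact isUnit_of_mul_eq_one' h

end

/-- [LAGDEC] -/
theorem pkgLagDec_of (hR : PkgLagRank.{u}) : PkgLagDec.{u} := by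
  intro F _ k X hX hnil
  classical
  have hJ : IsSymp (Matrix.J (Fin k) F) := isSymp_J k
  have hrk : (X ^ (Fintype.card (Fin k) + Fintype.card (Fin k))).rank = Fintype.card (Fin k) := by
    have h := hR F (Fin k ⊕ Fin k) (Matrix.J (Fin k) F) X hJ hX hnil
    rw [Fintype.card_sum] at h
    omega
  obtain ⟨P, N, A, hN, hA, hXP⟩ := Helper40.fitting_exists X hrk
  obtain ⟨D, hD⟩ : ∃ D : Matrix (Fin k ⊕ Fin k) (Fin k ⊕ Fin k) F, D = Matrix.fromBlocks N 0 0 A :=
    ⟨_, rfl⟩
  rw [← hD] at hXP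
  -- `A + 1` is nilpotent
  have hM : (X * X + X) * P.val = P.val * (D * D + D) := by
    rw [Matrix.add_mul, Matrix.mul_add, Matrix.mul_assoc, hXP, ← Matrix.mul_assoc, hXP,
      Matrix.mul_assoc]
  have hMpow : ∀ j : ℕ, (X * X + X) ^ j * P.val = P.val * (D * D + D) ^ j := by
    intro j
    induction j with
    | zero => simp
    | succ j ih => rw [pow_succ', Matrix.mul_assoc, ih, ← Matrix.mul_assoc, hM, Matrix.mul_assoc,
        ← pow_succ']
  obtain ⟨j, hj⟩ := hnil
  have hDD : (D * D + D) ^ j = 0 := by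
    have h1 := hMpow j
    rw [hj, Matrix.zero_mul] at h1
    have : (P⁻¹).val * (P.val * (D * D + D) ^ j) = 0 := by rw [← h1, Matrix.mul_zero]
    rwa [← Matrix.mul_assoc, Units.inv_mul, Matrix.one_mul] at this
  have hDD' : D * D + D = Matrix.fromBlocks (N * N + N) 0 0 (A * A + A) := by
    rw [hD, Matrix.fromBlocks_multiply, Matrix.fromBlocks_add]; simp
  rw [hDD', Helper40.fromBlocks_diag_pow] at hDD
  have hAA : (A * A + A) ^ j = 0 := by
    rw [← Matrix.fromBlocks_zero, Matrix.fromBlocks_inj] at hDD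
    exact hDD.2.2.2
  have hA1 : IsNilpotent (A + 1) := by
    refine ⟨j, ?_⟩
    have hc : Commute A (A + 1) := (Commute.refl A).add_right (Commute.one_right A)
    have h2 : A * A + A = A * (A + 1) := by rw [Matrix.mul_add, Matrix.mul_one]
    rw [h2, hc.mul_pow] at hAA
    obtain ⟨u, hu⟩ := hA.pow j
    have : ((u⁻¹ : (Matrix (Fin k) (Fin k) F)ˣ) : Matrix (Fin k) (Fin k) F) *
        ((u : Matrix (Fin k) (Fin k) F) * (A + 1) ^ j) = 0 := by
      rw [hu, hAA, Matrix.mul_zero]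
    rwa [← Matrix.mul_assoc, Units.inv_mul, Matrix.one_mul] at this
  -- the transported form
  obtain ⟨K', hK'⟩ : ∃ K' : Matrix (Fin k ⊕ Fin k) (Fin k ⊕ Fin k) F,
      K' = P.valᵀ * Matrix.J (Fin k) F * P.val := ⟨_, rfl⟩
  have hAff : Dᵀ * K' + K' * D + K' = 0 := by
    have h0 : P.valᵀ * (Xᵀ * Matrix.J (Fin k) F + Matrix.J (Fin k) F * X + Matrix.J (Fin k) F) *
        P.val = 0 := by
      rw [show Xᵀ * Matrix.J (Fin k) F + Matrix.J (Fin k) F * X + Matrix.J (Fin k) F = 0 from hX]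
      simp
    have e1 : Dᵀ * K' = P.valᵀ * (Xᵀ * Matrix.J (Fin k) F) * P.val := by
      have : Dᵀ * P.valᵀ = P.valᵀ * Xᵀ := by
        rw [← Matrix.transpose_mul, ← hXP, Matrix.transpose_mul]
      rw [hK', ← Matrix.mul_assoc, ← Matrix.mul_assoc, this]
      simp only [Matrix.mul_assoc]
    have e2 : K' * D = P.valᵀ * (Matrix.J (Fin k) F * X) * P.val := by
      rw [hK', Matrix.mul_assoc, ← hXP]
      simp only [Matrix.mul_assoc]
    rw [Matrix.mul_add, Matrix.mul_add, Matrix.add_mul, Matrix.add_mul] at h0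
    rw [e1, e2, hK']
    exact h0
  have hK'T : K'ᵀ = -K' := by
    rw [hK', Matrix.transpose_mul, Matrix.transpose_mul, Matrix.transpose_transpose,
      Matrix.J_transpose, Matrix.neg_mul, Matrix.mul_neg, Matrix.mul_assoc]
  have hK'u : IsUnit K' := by
    rw [hK']
    exact ((isUnit_transpose' P.isUnit).mul hJ.2.2).mul P.isUnit
  obtain ⟨K11, K12, K21, K22, hK⟩ : ∃ K11 K12 K21 K22, K' = Matrix.fromBlocks K11 K12 K21 K22 :=
    ⟨_, _, _, _, (Matrix.fromBlocks_toBlocks K').symm⟩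
  have hz : (0 : Matrix (Fin k ⊕ Fin k) (Fin k ⊕ Fin k) F) = Matrix.fromBlocks 0 0 0 0 :=
    Matrix.fromBlocks_zero.symm
  rw [hK, hD, Matrix.fromBlocks_transpose, Matrix.fromBlocks_multiply, Matrix.fromBlocks_multiply,
    Matrix.fromBlocks_add, Matrix.fromBlocks_add, hz, Matrix.fromBlocks_inj] at hAff
  simp only [Matrix.transpose_zero, Matrix.zero_mul, Matrix.mul_zero, add_zero, zero_add] at hAff
  obtain ⟨h11, h12, h21, h22⟩ := hAff
  have z11 : K11 = 0 := by
    refine sylv_nil_unit (-Nᵀ) (N + 1) K11 (isNilpotent_transpose' hN).neg hN.isUnit_add_one ?_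
    rw [Matrix.mul_add, Matrix.mul_one, Matrix.neg_mul, neg_eq_iff_add_eq_zero, ← add_assoc]
    exact h11
  have z22 : K22 = 0 := by
    refine sylv_unit_nil Aᵀ (-(A + 1)) K22 (isUnit_transpose' hA) hA1.neg ?_
    rw [Matrix.mul_neg, Matrix.mul_add, Matrix.mul_one, eq_neg_iff_add_eq_zero, ← add_assoc]
    exact h22
  subst z11 z22
  have hK21 : K21 = -K12ᵀ := by
    rw [hK, Matrix.fromBlocks_transpose, Matrix.fromBlocks_neg, Matrix.fromBlocks_inj] at hK'T
    have := hK'T.2.1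
    rw [← Matrix.transpose_transpose K21, this, Matrix.transpose_neg]
  have hB : IsUnit K12 := by
    obtain ⟨v, hv⟩ := hK'u
    obtain ⟨a, b, c, d, hinv⟩ : ∃ a b c d, (v⁻¹).val = Matrix.fromBlocks a b c d :=
      ⟨_, _, _, _, (Matrix.fromBlocks_toBlocks _).symm⟩
    have h1 : K' * (v⁻¹).val = 1 := by rw [← hv]; exact Units.mul_inv v
    rw [hK, hinv, Matrix.fromBlocks_multiply, ← Matrix.fromBlocks_one, Matrix.fromBlocks_inj] at h1
    have h2 := h1.1
    simp only [Matrix.zero_mul, zero_add] at h2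
    exact isUnit_of_mul_eq_one' h2
  obtain ⟨u, hu⟩ := hB
  -- the corrected change of basis
  have hBA : u.val * A = (-1 - Nᵀ) * u.val := by
    rw [hu, Matrix.sub_mul, Matrix.neg_mul, Matrix.one_mul, eq_sub_iff_add_eq, eq_neg_iff_add_eq_zero]
    rw [← h12]; abel
  have hAC : A * (u⁻¹).val = (u⁻¹).val * (-1 - Nᵀ) := by
    calc A * (u⁻¹).val = (u⁻¹).val * (u.val * A) * (u⁻¹).val := by
          rw [← Matrix.mul_assoc, Units.inv_mul, Matrix.one_mul]
      _ = (u⁻¹).val * ((-1 - Nᵀ) * u.val) * (u⁻¹).val := by rw [hBA]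
      _ = (u⁻¹).val * (-1 - Nᵀ) := by
          rw [Matrix.mul_assoc, Matrix.mul_assoc, Units.mul_inv, Matrix.mul_one]
  refine ⟨P * Helper40.diagGL (1 : GL (Fin k) F) (-u⁻¹), N, ?_, hN, ?_⟩
  · -- isometry
    unfold Isom
    rw [Units.val_mul, Matrix.transpose_mul]
    have : (Helper40.diagGL (1 : GL (Fin k) F) (-u⁻¹)).valᵀ * P.valᵀ * Matrix.J (Fin k) F *
        (P.val * (Helper40.diagGL (1 : GL (Fin k) F) (-u⁻¹)).val) =
        (Helper40.diagGL (1 : GL (Fin k) F) (-u⁻¹)).valᵀ * K' *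
          (Helper40.diagGL (1 : GL (Fin k) F) (-u⁻¹)).val := by
      rw [hK']; simp only [Matrix.mul_assoc]
    rw [this, hK, Helper40.diagGL_val, Matrix.fromBlocks_transpose, Matrix.fromBlocks_multiply,
      Matrix.fromBlocks_multiply, Matrix.J, Matrix.fromBlocks_inj]
    have e1 : u.val * (u⁻¹).val = 1 := Units.mul_inv u
    have e2 : ((u⁻¹).val)ᵀ * (u.val)ᵀ = 1 := by
      rw [← Matrix.transpose_mul, e1, Matrix.transpose_one]
    refine ⟨by simp, ?_, ?_, by simp⟩
    · simp only [Units.val_neg, Units.val_one, Matrix.transpose_zero, Matrix.transpose_one,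
        Matrix.zero_mul, Matrix.mul_zero, Matrix.one_mul, Matrix.mul_one, zero_add, add_zero]
      rw [← hu, Matrix.mul_neg, e1]
    · simp only [Units.val_neg, Units.val_one, Matrix.transpose_zero, Matrix.transpose_one,
        Matrix.zero_mul, Matrix.mul_zero, Matrix.one_mul, Matrix.mul_one, zero_add, add_zero]
      rw [hK21, ← hu, Matrix.transpose_neg, Matrix.neg_mul, Matrix.mul_neg, neg_neg, e2]
  · rw [Units.val_mul, ← Matrix.mul_assoc, hXP, Matrix.mul_assoc, Matrix.mul_assoc]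
    congr 1
    rw [hD, Helper40.diagGL_val, Matrix.fromBlocks_multiply, Matrix.fromBlocks_multiply,
      Matrix.fromBlocks_inj]
    refine ⟨by simp, by simp, by simp, ?_⟩
    simp only [Units.val_neg, Units.val_one, Matrix.zero_mul, Matrix.mul_zero, Matrix.one_mul,
      Matrix.mul_one, zero_add, add_zero]
    rw [Matrix.mul_neg, hAC, Matrix.neg_mul]

end Cfsg.Agent.Lib.Helper24.SPU
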